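import Cfsg.Agent.H455.TC.W
import Cfsg.Agent.H455.Ore.J1

/-!
# Two classes for `J₁`: the class of the elements of order 11 (helper455; S4173, S2464, S2452)
-/

set_option autoImplicit false

namespace Cfsg.Agent.H455.TC

open Cfsg Subgroup
open Cfsg.Agent.Characters.Core
open Cfsg.Agent.M23Order.Base
open Cfsg.Agent.H413.JOneSpec
open Cfsg.Agent.SporRec.J1.Defs
open Cfsg.Agent.H210.TC

universe u

variable {K : Type u} [Group K]

theorem row3_j1_local [Finite K] [IsSimpleGroup K] (h : Local K) (hc : Nat.card K = 175560) : Row3 K := by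
  have f11 : Fact (Nat.Prime 11) := ⟨by norm_num⟩
  obtain ⟨P, hP, ⟨D⟩⟩ := H417.BlockCount.exists_SC (G := K) 11 (by norm_num) (by rw [hc]; norm_num)
    (by rw [hc]; norm_num) (fun y hy => by rw [H417.JOneDeg.card_cent h hc (by rw [hy]; unfold Big; tauto), hy])
    (e := 10) (t := 1) (by rw [hc]) (by norm_num)
  obtain ⟨x, hx⟩ := exists_prime_orderOf_dvd_card' (G := (P : Subgroup K)) 11 (by rw [hP])
  have hx' : orderOf (x : K) = 11 := by rw [Subgroup.orderOf_coe]; exact hx
  have hperf : commutator K = ⊤ := MTwelve.SmallDegree.commutator_eq_top_of_card (by rw [hc]; norm_num)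
  obtain ⟨h1, -⟩ := H175.Eight.key_j1 h hc
  have hdeg : ∀ χ : IrrCharacter K, (χ : K → ℂ) ≠ 1 → 56 ≤ dg χ := by
    intro χ hχ
    have h2 := h1 χ
    simp only [List.mem_cons, List.not_mem_nil, or_false] at h2
    have h3 : dg χ ≠ 1 := fun h3 => hχ (coe_eq_one_of_dg hperf h3)
    omega
  refine Row3.of_sq (x := (x : K)) (by rw [hx']; norm_num) (by rw [hx']; norm_num) fun g hg => ?_
  refine exists_sq D (by norm_num) (by norm_num) x.2
    (fun h1 => by rw [h1, orderOf_one] at hx'; norm_num at hx')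
    (by rw [H417.JOneDeg.card_cent h hc (by rw [hx']; unfold Big; tauto), hx']) (d1 := 56) (d2 := 56)
    (fun χ _ hχ => hdeg χ hχ) (fun χ hX => hdeg χ fun h2 => ?_) (by norm_num) (by norm_num) ?_
  · have h3 : χ = D.one := Subtype.ext (by rw [h2, D.coe_one])
    exact Finset.disjoint_left.1 D.disj (h3 ▸ D.one_mem) hX
  · have h2 := Cfsg.Agent.H455.Ore.j1_cent h hc hg
    calc Nat.card (centralizer ({g} : Set K)) * ((10 - 1) * 56 ^ 2 + (11 - 10) ^ 2 * 56 ^ 2) ≤
        120 * ((10 - 1) * 56 ^ 2 + (11 - 10) ^ 2 * 56 ^ 2) := Nat.mul_le_mul_right _ h2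
      _ < 56 ^ 2 * 56 ^ 2 := by norm_num

/-- **`J₁`.** -/
theorem row3_j1 (h : Spor.IsoJ1 K) : Row3 K := by
  obtain ⟨e⟩ := h
  have : IsSimpleGroup Spor.J1 := SporadicB.J1.Main.isJ1.1
  have hfin : Finite Spor.J1 := Nat.finite_of_card_ne_zero (by rw [H413.JOneLocal.card_J1]; norm_num)
  exact Row3.of_equiv e (row3_j1_local H413.JOneLocal.isLocal H413.JOneLocal.card_J1)

end Cfsg.Agent.H455.TC
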