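import Cfsg.Agent.H455.TC.W
import Cfsg.Agent.H455.Ore.J3

/-!
# Two classes for `J₃`: a class of elements of order 17 (helper455; S4173, S2464, S2452)

The nonexceptional degrees for 17 are at least 152, the exceptional degree is 1215, `|C(g)| ≤ 1920`.
-/

set_option autoImplicit false
set_option maxRecDepth 100000

namespace Cfsg.Agent.H455.TC

open Cfsg Subgroup
open Cfsg.Agent.Characters.Core
open Cfsg.Agent.M23Order.Base
open Cfsg.Agent.H417.JThreeLP
open Cfsg.Agent.H455.Ore.J3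
open Cfsg.Agent.H210.TC

universe u

variable {K : Type u} [Group K]

/-- `|C(g)| ≤ 1920` -/
theorem j3_cent [Finite K] (h : Spor.IsoJ3 K) {g : K} (hg : g ≠ 1) : Nat.card (centralizer ({g} : Set K)) ≤ 1920 := by
  rcases cases_j3 h g with h1 | h1 | ⟨h1, -⟩ | h1
  · exact absurd h1 hg
  · rw [H724.IMJThree.card_two h h1]
  · rcases H305.OddJ3.cent_three h h1 with h2 | h2
    · rw [h2]; norm_num
    · exact (Nat.le_of_dvd (by norm_num) h2).trans (by norm_num)
  · exact h1.trans (by norm_num)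

/-- the exceptional degree -/
theorem exc_deg {ι : Type*} [Fintype ι] {V : ι → Fin 8 → ℤ} (h : Hyp V) (χ : ι) (h1 : V χ 0 % 17 = 8 ∨ V χ 0 % 17 = 9) :
    1215 ≤ V χ 0 := by
  obtain ⟨l, hl, hv⟩ := h.mem χ
  have hall : ∀ l ∈ vecs, fn l 0 % 17 = 8 ∨ fn l 0 % 17 = 9 → 1215 ≤ fn l 0 := by decide +kernel
  rw [hv] at h1 ⊢
  exact hall l hl h1

/-- **`J₃`.** -/
theorem row3_j3 (h : Spor.IsoJ3 K) : Row3 K := by
  classical
  obtain ⟨hs, hc, -⟩ := H898.J3Cent.base h
  have hfin : Finite K := Nat.finite_of_card_ne_zero (by rw [hc]; norm_num)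
  have := finite_irr (G := K)
  let _ := Fintype.ofFinite (IrrCharacter K)
  obtain ⟨V, hV, hH⟩ := H417.JThreeDeg.hyp h
  have f17 : Fact (Nat.Prime 17) := ⟨by norm_num⟩
  obtain ⟨P, hP, ⟨D⟩⟩ := H417.BlockCount.exists_SC (G := K) 17 (by norm_num) (by rw [hc]; norm_num)
    (by rw [hc]; norm_num) (fun y hy => (H898.J3Cent.seventeen h hy).1) (e := 8) (t := 2)
    (by rw [hc]) (by norm_num)
  obtain ⟨x, hx⟩ := exists_prime_orderOf_dvd_card' (G := (P : Subgroup K)) 17 (by rw [hP])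
  have hx' : orderOf (x : K) = 17 := by rw [Subgroup.orderOf_coe]; exact hx
  have hperf : commutator K = ⊤ := MTwelve.SmallDegree.commutator_eq_top_of_card (by rw [hc]; norm_num)
  refine Row3.of_sq (x := (x : K)) (by rw [hx']; norm_num) (by rw [hx']; norm_num) fun g hg => ?_
  refine exists_sq D (by norm_num) (by norm_num) x.2
    (fun h1 => by rw [h1, orderOf_one] at hx'; norm_num at hx') (H898.J3Cent.seventeen h hx').1 (d1 := 152) (d2 := 1215)
    (fun χ hχ hne => ?_) (fun χ hχ => ?_) (by norm_num) (by norm_num) ?_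
  · have h1 : dg χ ≠ 1 := fun h1 => hne (coe_eq_one_of_dg hperf h1)
    have h17 : dg χ % 17 ≠ 0 := by
      rcases H417.BlockCount.mod_NE' D (by norm_num) hχ with h4 | h4 <;> omega
    have h2 := le_deg hH χ (by rw [hV]; exact_mod_cast h1) (by rw [hV]; omega)
    rw [hV] at h2
    exact_mod_cast h2
  · have h17 : dg χ % 17 = 8 ∨ dg χ % 17 = 9 := by
      rcases H417.BlockCount.mod_X' D (by norm_num) (by norm_num) hχ with h4 | h4 <;> omega
    have h2 := exc_deg hH χ (by rw [hV]; omega)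
    rw [hV] at h2
    exact_mod_cast h2
  · have h2 := j3_cent h hg
    calc Nat.card (centralizer ({g} : Set K)) * ((8 - 1) * 1215 ^ 2 + (17 - 8) ^ 2 * 152 ^ 2) ≤
        1920 * ((8 - 1) * 1215 ^ 2 + (17 - 8) ^ 2 * 152 ^ 2) := Nat.mul_le_mul_right _ h2
      _ < 152 ^ 2 * 1215 ^ 2 := by norm_num

end Cfsg.Agent.H455.TC
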