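import Cfsg.Agent.H455.OreM.Enum
import Cfsg.Agent.H606.OreM.Tabs
import Mathlib.Tactic.NormNum.Prime

/-!
# The divisors of the order of the Monster in `[4962352590, 17766631680)` prime to 59 and 71: the certificate (helper455)

The odd divisors `m` are enumerated; for each the (at most two) numbers `2 ^ a m` of the interval are tested.
-/

set_option autoImplicit false

namespace Cfsg.Agent.H455.TC.CertX

open Cfsg.Agent.H606.OreM.Num (testD cA cB tabs)
open Cfsg.Agent.H455.OreM.Enum

/-- the odd primes (without 59, 71) -/
def L : List (ℕ × ℕ) := [(3, 20), (5, 9), (7, 6), (11, 2), (13, 3), (17, 1), (19, 1), (23, 1), (29, 1), (31, 1),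
  (41, 1), (47, 1)]

theorem L_prime : ∀ pa ∈ L, pa.1.Prime := by
  intro pa hpa
  simp only [L, List.mem_cons, List.not_mem_nil, or_false] at hpa
  rcases hpa with rfl | rfl | rfl | rfl | rfl | rfl | rfl | rfl | rfl | rfl | rfl | rfl <;> norm_num

theorem L_prod : 2 ^ 46 * (prod L * (59 * 71)) = 808017424794512875886459904961710757005754368000000000 := by
  norm_num [prod, L]

/-- the test of a number -/
def tst (d : ℕ) : Bool :=
  bif bit 288230377762324482 59 d then
  bif bit 1180591620820490518530 71 d then
  bif bit 1099511627779 41 d then testD cA cB tabs d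
  else true else true else true

/-- the test of `2 ^ a m` and `2 ^ (a - 1) m`, `2 ^ a m < 17766631680 ≤ 2 ^ (a + 1) m` -/
def tst2 (m : ℕ) : Bool :=
  force (Nat.shiftLeft m (Nat.log2 (Nat.div 17766631679 m))) fun x =>
    tst x && (bif Nat.beq (Nat.mod x 2) 1 then true else force (Nat.div x 2) tst)

theorem check1 : tst2 1 = true := by decide +kernel

theorem check : go 17766631680 tst2 L 1 = true := by decide +kernel

end Cfsg.Agent.H455.TC.CertX
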