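import Cfsg.Agent.H455.Ore.T1
import Cfsg.Agent.H210.TC.Row

/-!
# The product of a class of prime order with itself: a weighted counting lemma (helper455, for S4173, S2464, S2452)

* `exists_mul_xy` : `g = x^a y^b` if `|C(g)| ∑_{χ ≠ 1} (|χ(x)| |χ(y)| / χ(1))² < 1`;
* `exists_sq` : `g = x^a x^b` with Brauer's data of a self-centralizing Sylow subgroup of order `p`, two bounds for the
  degrees; `row3_of_sc` : the row.
-/

set_option autoImplicit false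
set_option linter.unusedSectionVars false

namespace Cfsg.Agent.H455.TC

open Cfsg Subgroup
open Cfsg.Agent.Characters.Core
open Cfsg.Agent.M23Order.Base
open Cfsg.Agent.H455.Ore
open scoped ComplexConjugate

universe u

variable {G : Type u} [Group G]

/-- if `g` is no product of a conjugate of `x` and a conjugate of `y`, a character sum vanishes -/
theorem sum_eq_zero [Finite G] [Fintype (IrrCharacter G)] {x y g : G}
    (hg : ¬ ∃ a b : G, g = (a * x * a⁻¹) * (b * y * b⁻¹)) :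
    ∑ χ : IrrCharacter G, (χ : G → ℂ) x * (χ : G → ℂ) y * conj ((χ : G → ℂ) g) / (χ : G → ℂ) 1 = 0 := by
  have h := Characters.ClassMul.card_class_mul x y g
  have hemp : IsEmpty {p : G × G // IsConj x p.1 ∧ IsConj y p.2 ∧ p.1 * p.2 = g} := by
    constructor
    rintro ⟨⟨u, v⟩, hu, hv, huv⟩
    obtain ⟨c, rfl⟩ := isConj_iff.1 hu
    obtain ⟨d, rfl⟩ := isConj_iff.1 hv
    exact hg ⟨c, d, huv.symm⟩
  rw [Nat.card_of_isEmpty, Nat.cast_zero] at h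
  have h1 : ((centralizer ({x} : Set G)).index : ℂ) ≠ 0 := by exact_mod_cast Subgroup.index_ne_zero_of_finite
  have h2 : ((centralizer ({y} : Set G)).index : ℂ) ≠ 0 := by exact_mod_cast Subgroup.index_ne_zero_of_finite
  have h3 : (Nat.card G : ℂ) ≠ 0 := by exact_mod_cast Nat.card_pos.ne'
  exact (mul_eq_zero.1 h.symm).resolve_left (div_ne_zero (mul_ne_zero h1 h2) h3)

/-- **The counting lemma.** -/
theorem exists_mul_xy [Finite G] [Fintype (IrrCharacter G)] {x y g : G} {S : ℝ}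
    (hS : ∀ A : Finset (IrrCharacter G), (∀ χ ∈ A, (χ : G → ℂ) ≠ 1) →
      ∑ χ ∈ A, (‖(χ : G → ℂ) x‖ * ‖(χ : G → ℂ) y‖ / dg χ) ^ 2 ≤ S)
    (hlt : (Nat.card (centralizer ({g} : Set G)) : ℝ) * S < 1) :
    ∃ a b : G, g = (a * x * a⁻¹) * (b * y * b⁻¹) := by
  classical
  by_contra hg
  have h1 := sum_eq_zero (x := x) (y := y) hg
  set e : IrrCharacter G := ⟨1, isIrr_one⟩ with he
  have hev : ∀ y : G, (e : G → ℂ) y = 1 := fun y => rfl
  rw [← Finset.add_sum_erase _ _ (Finset.mem_univ e), hev, hev, hev, hev] at h1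
  simp only [map_one, mul_one, div_one] at h1
  -- the norm of the rest
  have h2 : (1 : ℝ) ≤ ∑ χ ∈ Finset.univ.erase e, ‖(χ : G → ℂ) x‖ * ‖(χ : G → ℂ) y‖ / dg χ * ‖(χ : G → ℂ) g‖ := by
    have h3 : (1 : ℂ) = -∑ χ ∈ Finset.univ.erase e,
        (χ : G → ℂ) x * (χ : G → ℂ) y * conj ((χ : G → ℂ) g) / (χ : G → ℂ) 1 := eq_neg_of_add_eq_zero_left h1
    calc (1 : ℝ) = ‖(1 : ℂ)‖ := by simp
      _ = ‖∑ χ ∈ Finset.univ.erase e,
        (χ : G → ℂ) x * (χ : G → ℂ) y * conj ((χ : G → ℂ) g) / (χ : G → ℂ) 1‖ := by rw [h3, norm_neg]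
      _ ≤ ∑ χ ∈ Finset.univ.erase e,
        ‖(χ : G → ℂ) x * (χ : G → ℂ) y * conj ((χ : G → ℂ) g) / (χ : G → ℂ) 1‖ := norm_sum_le _ _
      _ = _ := by
        refine Finset.sum_congr rfl fun χ _ => ?_
        rw [dg_eq, norm_div, norm_mul, norm_mul, RCLike.norm_conj, Complex.norm_natCast]
        ring
  have hne : ∀ χ ∈ Finset.univ.erase e, (χ : G → ℂ) ≠ 1 := by
    intro χ hχ h
    exact (Finset.mem_erase.1 hχ).1 (Subtype.ext h)
  have h4 := Finset.sum_mul_sq_le_sq_mul_sq (Finset.univ.erase e)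
    (fun χ : IrrCharacter G => ‖(χ : G → ℂ) x‖ * ‖(χ : G → ℂ) y‖ / dg χ) (fun χ => ‖(χ : G → ℂ) g‖)
  have h5 : ∑ χ ∈ Finset.univ.erase e, ‖(χ : G → ℂ) g‖ ^ 2 ≤ (Nat.card (centralizer ({g} : Set G)) : ℝ) := by
    rw [← sum_normSq g]
    exact Finset.sum_le_sum_of_subset_of_nonneg (Finset.erase_subset _ _) fun _ _ _ => by positivity
  have h6 := hS (Finset.univ.erase e) hne
  have h7 : (1 : ℝ) ≤ S * (Nat.card (centralizer ({g} : Set G)) : ℝ) := by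
    calc (1 : ℝ) = 1 ^ 2 := (one_pow 2).symm
      _ ≤ (∑ χ ∈ Finset.univ.erase e, ‖(χ : G → ℂ) x‖ * ‖(χ : G → ℂ) y‖ / dg χ * ‖(χ : G → ℂ) g‖) ^ 2 :=
        pow_le_pow_left₀ zero_le_one h2 2
      _ ≤ _ := h4
      _ ≤ S * (Nat.card (centralizer ({g} : Set G)) : ℝ) := by
        refine mul_le_mul h6 h5 (Finset.sum_nonneg fun _ _ => by positivity) ?_
        exact le_trans (Finset.sum_nonneg fun _ _ => by positivity) h6
  linarith

/-- **The square of a class of a self-centralizing Sylow subgroup of order `p`.** -/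
theorem exists_sq [Finite G] {p e t : ℕ} {P : Sylow p G} (D : SC p e t P) (he : 0 < e) (hep : e < p)
    {x : G} (hx : x ∈ P) (hx1 : x ≠ 1) (hC : Nat.card (centralizer ({x} : Set G)) = p) {g : G} {d1 d2 : ℕ}
    (h1 : ∀ χ ∈ D.NE, (χ : G → ℂ) ≠ 1 → d1 ≤ dg χ) (h2 : ∀ χ ∈ D.X, d2 ≤ dg χ) (hd1 : 0 < d1) (hd2 : 0 < d2)
    (hlt : Nat.card (centralizer ({g} : Set G)) * ((e - 1) * d2 ^ 2 + (p - e) ^ 2 * d1 ^ 2) < d1 ^ 2 * d2 ^ 2) :
    ∃ a b : G, g = (a * x * a⁻¹) * (b * x * b⁻¹) := by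
  classical
  have := finite_irr (G := G)
  let _ := Fintype.ofFinite (IrrCharacter G)
  have r1 : (0 : ℝ) < (d1 : ℝ) ^ 2 := by positivity
  have r2 : (0 : ℝ) < (d2 : ℝ) ^ 2 := by positivity
  refine exists_mul_xy (x := x) (y := x)
    (S := ((e - 1 : ℕ) : ℝ) / (d1 : ℝ) ^ 2 + (((p - e) ^ 2 : ℕ) : ℝ) / (d2 : ℝ) ^ 2) ?_ ?_
  · intro A hA
    have hNE : ∀ χ ∈ D.NE, ‖(χ : G → ℂ) x‖ ^ 2 = 1 := by
      intro χ hχ
      rw [D.val χ hχ x hx hx1]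
      rcases D.ε_mem χ hχ with h | h <;> rw [h] <;> simp
    have hall := sum_normSq x
    rw [hC] at hall
    have hsub : ∑ χ ∈ D.NE ∪ D.X, ‖(χ : G → ℂ) x‖ ^ 2 ≤ (p : ℝ) := by
      rw [← hall]
      exact Finset.sum_le_sum_of_subset_of_nonneg (Finset.subset_univ _) fun _ _ _ => by positivity
    rw [Finset.sum_union D.disj, Finset.sum_congr rfl hNE, Finset.sum_const, D.card_NE, nsmul_eq_mul, mul_one] at hsub
    have hX : ∑ χ ∈ D.X, ‖(χ : G → ℂ) x‖ ^ 2 ≤ (p : ℝ) - e := by linarith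
    have hX1 : ∑ χ ∈ D.X, (‖(χ : G → ℂ) x‖ ^ 2) ^ 2 ≤ ((p : ℝ) - e) ^ 2 := by
      have h1 : ∀ χ ∈ D.X, ‖(χ : G → ℂ) x‖ ^ 2 ≤ (p : ℝ) - e := fun χ hχ =>
        le_trans (Finset.single_le_sum (f := fun χ : IrrCharacter G => ‖(χ : G → ℂ) x‖ ^ 2)
          (fun _ _ => by positivity) hχ) hX
      calc ∑ χ ∈ D.X, (‖(χ : G → ℂ) x‖ ^ 2) ^ 2 ≤ ∑ χ ∈ D.X, ((p : ℝ) - e) * ‖(χ : G → ℂ) x‖ ^ 2 := by
            refine Finset.sum_le_sum fun χ hχ => ?_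
            rw [sq (‖(χ : G → ℂ) x‖ ^ 2)]
            exact mul_le_mul_of_nonneg_right (h1 χ hχ) (by positivity)
        _ = ((p : ℝ) - e) * ∑ χ ∈ D.X, ‖(χ : G → ℂ) x‖ ^ 2 := (Finset.mul_sum _ _ _).symm
        _ ≤ ((p : ℝ) - e) * ((p : ℝ) - e) := mul_le_mul_of_nonneg_left hX (by
            have : (e : ℝ) < p := by exact_mod_cast hep
            linarith)
        _ = _ := (sq _).symm
    -- the terms
    have hterm : ∀ (χ : IrrCharacter G) (d : ℕ), 0 < d → d ≤ dg χ →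
        (‖(χ : G → ℂ) x‖ * ‖(χ : G → ℂ) x‖ / dg χ) ^ 2 ≤ (‖(χ : G → ℂ) x‖ ^ 2) ^ 2 / (d : ℝ) ^ 2 := by
      intro χ d hd hdχ
      have h3 : (0 : ℝ) < d := by exact_mod_cast hd
      have h4 : (d : ℝ) ≤ dg χ := by exact_mod_cast hdχ
      rw [div_pow, ← sq]
      exact div_le_div_of_nonneg_left (by positivity) (by positivity) (pow_le_pow_left₀ h3.le h4 2)
    have hNEs : ∑ χ ∈ D.NE.erase D.one, (‖(χ : G → ℂ) x‖ * ‖(χ : G → ℂ) x‖ / dg χ) ^ 2 ≤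
        ((e - 1 : ℕ) : ℝ) / (d1 : ℝ) ^ 2 := by
      calc ∑ χ ∈ D.NE.erase D.one, (‖(χ : G → ℂ) x‖ * ‖(χ : G → ℂ) x‖ / dg χ) ^ 2
          ≤ ∑ χ ∈ D.NE.erase D.one, 1 / (d1 : ℝ) ^ 2 := by
            refine Finset.sum_le_sum fun χ hχ => ?_
            obtain ⟨h3, h4⟩ := Finset.mem_erase.1 hχ
            have h5 : (χ : G → ℂ) ≠ 1 := fun h => h3 (Subtype.ext (by rw [h, D.coe_one]))
            have h6 := hterm χ d1 hd1 (h1 χ h4 h5)
            rwa [hNE χ h4, one_pow] at h6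
        _ = _ := by
            rw [Finset.sum_const, Finset.card_erase_of_mem D.one_mem, D.card_NE, nsmul_eq_mul]
            ring
    have hXs : ∑ χ ∈ D.X, (‖(χ : G → ℂ) x‖ * ‖(χ : G → ℂ) x‖ / dg χ) ^ 2 ≤ (((p - e) ^ 2 : ℕ) : ℝ) / (d2 : ℝ) ^ 2 := by
      calc ∑ χ ∈ D.X, (‖(χ : G → ℂ) x‖ * ‖(χ : G → ℂ) x‖ / dg χ) ^ 2
          ≤ ∑ χ ∈ D.X, (‖(χ : G → ℂ) x‖ ^ 2) ^ 2 / (d2 : ℝ) ^ 2 :=
            Finset.sum_le_sum fun χ hχ => hterm χ d2 hd2 (h2 χ hχ)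
        _ = (∑ χ ∈ D.X, (‖(χ : G → ℂ) x‖ ^ 2) ^ 2) / (d2 : ℝ) ^ 2 := (Finset.sum_div _ _ _).symm
        _ ≤ _ := by
            refine div_le_div_of_nonneg_right ?_ r2.le
            push_cast
            rw [Nat.cast_sub hep.le]
            exact hX1
    have hA' : ∑ χ ∈ A, (‖(χ : G → ℂ) x‖ * ‖(χ : G → ℂ) x‖ / dg χ) ^ 2 ≤
        ∑ χ ∈ (D.NE.erase D.one) ∪ D.X, (‖(χ : G → ℂ) x‖ * ‖(χ : G → ℂ) x‖ / dg χ) ^ 2 := by
      have h1 : ∑ χ ∈ A, (‖(χ : G → ℂ) x‖ * ‖(χ : G → ℂ) x‖ / dg χ) ^ 2 =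
          ∑ χ ∈ A.filter (fun χ => χ ∈ D.NE ∪ D.X), (‖(χ : G → ℂ) x‖ * ‖(χ : G → ℂ) x‖ / dg χ) ^ 2 := by
        refine (Finset.sum_subset (Finset.filter_subset _ _) fun χ hχ h2 => ?_).symm
        have h3 : χ ∉ D.NE ∪ D.X := fun h3 => h2 (Finset.mem_filter.2 ⟨hχ, h3⟩)
        rw [Finset.mem_union, not_or] at h3
        rw [D.out χ h3.1 h3.2 x hx hx1]
        simp
      rw [h1]
      refine Finset.sum_le_sum_of_subset_of_nonneg ?_ fun _ _ _ => by positivity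
      intro χ hχ
      rw [Finset.mem_filter, Finset.mem_union] at hχ
      rw [Finset.mem_union, Finset.mem_erase]
      rcases hχ.2 with h | h
      · left
        refine ⟨?_, h⟩
        rintro rfl
        exact hA _ hχ.1 D.coe_one
      · exact Or.inr h
    have hdis : Disjoint (D.NE.erase D.one) D.X := Finset.disjoint_of_subset_left (Finset.erase_subset _ _) D.disj
    rw [Finset.sum_union hdis] at hA'
    linarith
  · rw [div_add_div _ _ r1.ne' r2.ne', ← mul_div_assoc, div_lt_one (mul_pos r1 r2)]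
    have h3 : ((Nat.card (centralizer ({g} : Set G)) * ((e - 1) * d2 ^ 2 + (p - e) ^ 2 * d1 ^ 2) : ℕ) : ℝ) <
        ((d1 ^ 2 * d2 ^ 2 : ℕ) : ℝ) := by exact_mod_cast hlt
    push_cast at h3 ⊢
    calc _ = (Nat.card (centralizer ({g} : Set G)) : ℝ) *
        (((e - 1 : ℕ) : ℝ) * (d2 : ℝ) ^ 2 + ((p - e : ℕ) : ℝ) ^ 2 * (d1 : ℝ) ^ 2) := by ring
      _ < _ := h3

end Cfsg.Agent.H455.TC
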